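import Groth.Agent.FittX.Prod
import Groth.Agent.FittX.Free
import Groth.Prelude.Def_FlatCA
import Mathlib.RingTheory.Unramified.Finite
import Mathlib.RingTheory.Localization.BaseChange
import Mathlib.RingTheory.Etale.Basic

/-!
# The zeroth Fitting ideal of an ideal quotient, over an unramified open piece
-/

set_option autoImplicit false
set_option linter.style.haveILetI false

universe u

open TensorProduct

namespace Groth.Agent.FittEtale

theorem fittingZero_eq_ideal (R : Type u) [CommRing R] (M : Type u) [AddCommGroup M] [Module R M] :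
    FlatCA.fittingZero R M = Fitt.ideal R M 0 := by
  unfold FlatCA.fittingZero Fitt.ideal
  congr 1
  ext d
  constructor
  · rintro ⟨n, x, a, hx, ha, rfl⟩
    exact ⟨n, x, a, hx, fun i _ => ha i, rfl⟩
  · rintro ⟨n, x, a, hx, ha, rfl⟩
    exact ⟨n, x, a, hx, fun i => ha i (by simp), rfl⟩

/-- The zeroth Fitting ideal of a cyclic module. -/
theorem ideal_zero_quotient {R : Type u} [CommRing R] (I : Ideal R) : Fitt.ideal R (R ⧸ I) 0 = I := by
  apply le_antisymm
  · refine (FittX.ideal_annihilator).trans ?_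
    rw [Ideal.annihilator_quotient]
  · intro d hd
    refine Ideal.subset_span ⟨1, fun _ => Ideal.Quotient.mk I 1, fun _ _ => d, ?_, fun i _ => ?_, (Matrix.det_fin_one (fun _ _ => d : Matrix (Fin 1) (Fin 1) R)).symm⟩
    · rw [eq_top_iff]
      intro z _
      obtain ⟨r, rfl⟩ := Ideal.Quotient.mk_surjective z
      rw [Set.range_const, Submodule.mem_span_singleton]
      exact ⟨r, by rw [Algebra.smul_def, map_one, mul_one, Ideal.Quotient.algebraMap_eq]⟩
    · rw [Fin.sum_univ_one, Algebra.smul_def, map_one, mul_one, Ideal.Quotient.algebraMap_eq,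
        Ideal.Quotient.eq_zero_iff_mem]
      exact hd

variable {A C : Type u} [CommRing A] [CommRing C] [Algebra A C] (h : C)

local notation "Ch" => Localization.Away h

/-- Over an open piece unramified over the base, the multiplication map of a finite algebra has kernel generated by
an idempotent. -/
theorem exists_idem [Module.Finite A C] [Algebra.FormallyUnramified A Ch] :
    ∃ e : Ch ⊗[A] C, IsIdempotentElem e ∧
      Algebra.TensorProduct.lift (Algebra.ofId Ch Ch) (IsScalarTower.toAlgHom A C Ch) (fun _ _ => Commute.all _ _) e = 0 ∧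
      ∀ x : Ch ⊗[A] C,
        Algebra.TensorProduct.lift (Algebra.ofId Ch Ch) (IsScalarTower.toAlgHom A C Ch) (fun _ _ => Commute.all _ _) x = 0 →
          x * e = x := by
  classical
  set μ : Ch ⊗[A] C →ₐ[Ch] Ch :=
    Algebra.TensorProduct.lift (Algebra.ofId Ch Ch) (IsScalarTower.toAlgHom A C Ch) (fun _ _ => Commute.all _ _)
  have hμ : ∀ (s : Ch) (c : C), μ (s ⊗ₜ c) = s * algebraMap C Ch c := fun s c =>
    Algebra.TensorProduct.lift_tmul _ _ _ _ _
  haveI : Algebra.FiniteType A C := inferInstance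
  haveI : Algebra.FiniteType C Ch := IsLocalization.finiteType_of_monoid_fg (Submonoid.powers h) _
  haveI : Algebra.FiniteType A Ch := Algebra.FiniteType.trans (S := C) ‹_› ‹_›
  obtain ⟨t, ht, ht1⟩ := Algebra.FormallyUnramified.iff_exists_tensorProduct.1
    (‹Algebra.FormallyUnramified A Ch›)
  let ψ : Ch ⊗[A] C →ₐ[Ch] Ch ⊗[A] Ch :=
    Algebra.TensorProduct.map (AlgHom.id Ch Ch) (IsScalarTower.toAlgHom A C Ch)
  have hψμ : ∀ z, Algebra.TensorProduct.lmul' A (ψ z) = μ z := by
    intro z
    induction z using TensorProduct.induction_on with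
    | zero => simp
    | tmul s c => simp [ψ, hμ]
    | add a b ha hb => simp [ha, hb]
  letI := ψ.toRingHom.toAlgebra
  haveI : IsScalarTower Ch (Ch ⊗[A] C) (Ch ⊗[A] Ch) := IsScalarTower.of_algebraMap_eq' ψ.comp_algebraMap.symm
  haveI hloc := IsLocalization.tensorProduct_tensorProduct_right A Ch (Submonoid.powers h) Ch
    (by
      refine RingHom.ext fun c => ?_
      show ψ (1 ⊗ₜ c) = 1 ⊗ₜ algebraMap C Ch c
      simp [ψ])
  let M : Submonoid (Ch ⊗[A] C) :=
    (Submonoid.powers h).map (Algebra.TensorProduct.includeRight (R := A) (A := Ch))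
  obtain ⟨⟨u, m⟩, hu⟩ := IsLocalization.surj M t
  obtain ⟨_, ⟨n, rfl⟩, hm⟩ := Submonoid.mem_map.1 m.2
  obtain ⟨G, hG⟩ := Module.Finite.fg_top (R := A) (M := C)
  let d : C → Ch ⊗[A] C := fun c => 1 ⊗ₜ c - algebraMap C Ch c ⊗ₜ 1
  have hd0 : ∀ c, algebraMap (Ch ⊗[A] C) (Ch ⊗[A] Ch) (d c * u) = 0 := by
    intro c
    rw [map_mul]
    have : algebraMap (Ch ⊗[A] C) (Ch ⊗[A] Ch) (d c) =
        1 ⊗ₜ algebraMap C Ch c - algebraMap C Ch c ⊗ₜ 1 := by
      show ψ (d c) = _
      simp [d, ψ]
    rw [this, ← hu, ← mul_assoc, ht, zero_mul]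
  have hkill : ∀ c, ∃ a : M, (a : Ch ⊗[A] C) * (d c * u) = 0 := fun c =>
    (IsLocalization.map_eq_zero_iff M (Ch ⊗[A] Ch) _).1 (hd0 c)
  choose a ha using hkill
  let b : M := ∏ c ∈ G, a c
  let v : Ch ⊗[A] C := (b : Ch ⊗[A] C) * u
  have hv : ∀ c : C, d c * v = 0 := by
    intro c
    have hc : c ∈ Submodule.span A (G : Set C) := hG ▸ Submodule.mem_top
    induction hc using Submodule.span_induction with
    | mem c hc =>
      obtain ⟨r, hr⟩ := Finset.dvd_prod_of_mem a (Finset.mem_coe.1 hc)
      show d c * ((b : Ch ⊗[A] C) * u) = 0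
      rw [show b = a c * r from hr, Submonoid.coe_mul]
      linear_combination (r : Ch ⊗[A] C) * ha c
    | zero => simp [d]
    | add x y _ _ hx hy =>
      rw [show d (x + y) = d x + d y from by simp [d, tmul_add, add_tmul, map_add]; ring, add_mul, hx, hy, add_zero]
    | smul r x _ hx =>
      rw [show d (r • x) = r • d x from by
        simp only [d, tmul_smul, smul_sub, ← Algebra.algebraMap_eq_smul_one]
        rw [show algebraMap C Ch (r • x) = r • algebraMap C Ch x from
          map_smul (IsScalarTower.toAlgHom A C Ch) r x]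
        simp only [smul_tmul']]
      rw [smul_mul_assoc, hx, smul_zero]
  have hM : ∀ y ∈ M, IsUnit (μ y) := by
    rintro _ ⟨_, ⟨k, rfl⟩, rfl⟩
    show IsUnit (μ (1 ⊗ₜ (h ^ k)))
    rw [hμ, one_mul, map_pow]
    exact (IsLocalization.Away.algebraMap_isUnit h).pow k
  have huunit : IsUnit (μ u) := by
    have h1 := congrArg (Algebra.TensorProduct.lmul' A) hu
    rw [map_mul, ht1, one_mul] at h1
    have h2 : μ (m : Ch ⊗[A] C) = μ u := by
      rw [← hψμ, ← hψμ]
      exact h1
    exact h2 ▸ hM _ m.2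
  have hvunit : IsUnit (μ v) := by
    show IsUnit (μ ((b : Ch ⊗[A] C) * u))
    rw [map_mul]
    exact (hM _ b.2).mul huunit
  let e₀ : Ch ⊗[A] C := v * ((↑hvunit.unit⁻¹ : Ch) ⊗ₜ 1)
  have he₀1 : μ e₀ = 1 := by
    show μ (v * _) = 1
    rw [map_mul, hμ, map_one, mul_one]
    exact hvunit.mul_val_inv
  have hv' : ∀ z, z * v = (μ z ⊗ₜ 1) * v := by
    intro z
    induction z using TensorProduct.induction_on with
    | zero => simp
    | tmul s c =>
      rw [hμ]
      have := hv c
      simp only [d, sub_mul, sub_eq_zero] at this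
      rw [show s ⊗ₜ[A] c = (s ⊗ₜ 1) * (1 ⊗ₜ c) by simp, mul_assoc, this, ← mul_assoc]
      simp
    | add x y hx hy => rw [map_add, add_tmul, add_mul, add_mul, hx, hy]
  have he₀ : ∀ z, z * e₀ = (μ z ⊗ₜ 1) * e₀ := fun z => by
    show z * (v * _) = (μ z ⊗ₜ 1) * (v * _)
    rw [← mul_assoc, hv', mul_assoc]
  refine ⟨1 - e₀, ?_, ?_, fun x hx => ?_⟩
  · refine IsIdempotentElem.one_sub ?_
    show e₀ * e₀ = e₀
    rw [he₀, he₀1, ← Algebra.TensorProduct.one_def, one_mul]
  · rw [map_sub, map_one, he₀1, sub_self]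
  · rw [mul_sub, mul_one, he₀, hx, zero_tmul, zero_mul, sub_zero]

/-- The zeroth Fitting ideal of `C/J` extended to an unramified open piece is divisible by `J`. -/
theorem exists_mul_eq [Module.Finite A C] [Algebra.FormallyUnramified A Ch] (J : Ideal C) :
    ∃ J' : Ideal Ch,
      (Fitt.ideal A (C ⧸ J) 0).map (algebraMap A Ch) = J.map (algebraMap C Ch) * J' ∧
      (Module.FinitePresentation A (C ⧸ J) → J'.FG) := by
  classical
  obtain ⟨e, he, hμe, hker⟩ := exists_idem (A := A) h
  set μ : Ch ⊗[A] C →ₐ[Ch] Ch :=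
    Algebra.TensorProduct.lift (Algebra.ofId Ch Ch) (IsScalarTower.toAlgHom A C Ch) (fun _ _ => Commute.all _ _)
  let JCh : Ideal Ch := J.map (algebraMap C Ch)
  let q : Ch ⊗[A] C →ₐ[Ch] Ch ⊗[A] (C ⧸ J) :=
    Algebra.TensorProduct.map (AlgHom.id Ch Ch) (Ideal.Quotient.mkₐ A J)
  have hq : Function.Surjective q := by
    intro z
    induction z using TensorProduct.induction_on with
    | zero => exact ⟨0, map_zero _⟩
    | tmul s c =>
      obtain ⟨c, rfl⟩ := Ideal.Quotient.mk_surjective c
      exact ⟨s ⊗ₜ c, by simp [q]⟩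
    | add a b ha hb =>
      obtain ⟨a, rfl⟩ := ha
      obtain ⟨b, rfl⟩ := hb
      exact ⟨a + b, map_add _ _ _⟩
  let π : Ch ⊗[A] (C ⧸ J) →ₐ[Ch] Ch ⧸ JCh :=
    Algebra.TensorProduct.lift (Algebra.ofId Ch (Ch ⧸ JCh))
      (Ideal.quotientMapₐ JCh (IsScalarTower.toAlgHom A C Ch) Ideal.le_comap_map) (fun _ _ => Commute.all _ _)
  have hπ : ∀ z, π (q z) = Ideal.Quotient.mk JCh (μ z) := by
    intro z
    induction z using TensorProduct.induction_on with
    | zero => simp
    | tmul s c =>
      simp only [q, π, μ, Algebra.TensorProduct.map_tmul, Algebra.TensorProduct.lift_tmul, AlgHom.id_apply,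
        Ideal.Quotient.mkₐ_eq_mk, map_mul]
      rfl
    | add a b ha hb => simp [ha, hb]
  have hπs : Function.Surjective π := fun z => by
    obtain ⟨s, rfl⟩ := Ideal.Quotient.mk_surjective z
    refine ⟨q (s ⊗ₜ 1), ?_⟩
    rw [hπ]
    simp [μ]
  let e' := q e
  have hπe : π e' = 0 := by rw [hπ, hμe, map_zero]
  have hkerπ : ∀ x, π x = 0 → x * e' = x := by
    intro x hx
    obtain ⟨z, rfl⟩ := hq x
    rw [hπ, Ideal.Quotient.eq_zero_iff_mem] at hx
    obtain ⟨w, hw, hwq⟩ : ∃ w, μ w = μ z ∧ q w = 0 := by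
      have hle : ∀ y ∈ JCh, ∃ w, μ w = y ∧ q w = 0 := by
        intro y hy
        induction hy using Submodule.span_induction with
        | mem y hy =>
          obtain ⟨c, hc, rfl⟩ := hy
          refine ⟨1 ⊗ₜ c, by simp [μ], ?_⟩
          show Algebra.TensorProduct.map _ _ (1 ⊗ₜ c) = 0
          rw [Algebra.TensorProduct.map_tmul, Ideal.Quotient.mkₐ_eq_mk, Ideal.Quotient.eq_zero_iff_mem.2 hc, tmul_zero]
        | zero => exact ⟨0, map_zero _, map_zero _⟩
        | add a b _ _ ha hb =>
          obtain ⟨v, hv, hv'⟩ := ha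
          obtain ⟨w, hw, hw'⟩ := hb
          exact ⟨v + w, by rw [map_add, hv, hw], by rw [map_add, hv', hw', add_zero]⟩
        | smul r a _ ha =>
          obtain ⟨v, hv, hv'⟩ := ha
          exact ⟨r • v, by rw [map_smul, hv], by rw [map_smul, hv', smul_zero]⟩
      exact hle _ hx
    have h1 : μ (z - w) = 0 := by rw [map_sub, hw, sub_self]
    have h2 := congrArg q (hker _ h1)
    rw [map_mul, map_sub, hwq, sub_zero] at h2
    exact h2
  have he' : e' * e' = e' := by rw [← map_mul, he.eq]
  let N : Submodule Ch (Ch ⊗[A] (C ⧸ J)) := LinearMap.ker π.toLinearMap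
  let p : Ch ⊗[A] (C ⧸ J) →ₗ[Ch] N :=
    (LinearMap.mulRight Ch e').codRestrict N fun x => by
      show π (x * e') = 0
      rw [map_mul, hπe, mul_zero]
  have hp : ∀ x : N, p x = x := fun x => Subtype.ext (hkerπ x.1 x.2)
  have hbij : Function.Bijective (p.prod π.toLinearMap) := by
    constructor
    · rw [injective_iff_map_eq_zero]
      intro x hx
      obtain ⟨h1, h2⟩ := Prod.mk.inj (show (p x, π x) = (0, 0) from hx)
      rw [← hkerπ x h2]
      exact congrArg Subtype.val h1
    · rintro ⟨a, d⟩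
      obtain ⟨x, rfl⟩ := hπs d
      refine ⟨(a : Ch ⊗[A] (C ⧸ J)) + (x - x * e'), ?_⟩
      refine Prod.ext (Subtype.ext ?_) ?_
      · show ((a : Ch ⊗[A] (C ⧸ J)) + (x - x * e')) * e' = a
        rw [add_mul, sub_mul, mul_assoc x, he', sub_self, add_zero, hkerπ _ a.2]
      · show π ((a : Ch ⊗[A] (C ⧸ J)) + (x - x * e')) = π x
        rw [map_add, show π (a : Ch ⊗[A] (C ⧸ J)) = 0 from a.2, map_sub, map_mul, hπe, mul_zero, sub_zero, zero_add]
  haveI : Module.Finite A (C ⧸ J) := inferInstance
  haveI : Module.Finite Ch N := Module.Finite.of_surjective p fun x => ⟨x, hp x⟩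
  refine ⟨Fitt.ideal Ch N 0, ?_, fun hfp => ?_⟩
  · rw [← FittX.ideal_baseChange (TensorProduct.isBaseChange A (C ⧸ J) Ch) 0,
      FittX.ideal_congr (M' := N × (Ch ⧸ JCh)) (LinearEquiv.ofBijective (p.prod π.toLinearMap) hbij) 0, FittX.ideal_prod (M := N) (M' := Ch ⧸ JCh) (l := 0), Finset.sum_range_one, Nat.sub_self]
    rw [show Fitt.ideal Ch (Ch ⧸ JCh) 0 = JCh from ideal_zero_quotient JCh, mul_comm]
  · haveI := hfp
    haveI : Module.FinitePresentation Ch (Ch ⊗[A] (C ⧸ J)) := inferInstance
    have hsurj : Function.Surjective p := fun x => ⟨(x : Ch ⊗[A] (C ⧸ J)), hp x⟩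
    have hfg : (LinearMap.ker p).FG := by
      have : LinearMap.ker p = LinearMap.range ((LinearMap.id : _ →ₗ[Ch] _) - N.subtype ∘ₗ p) := by
        apply le_antisymm
        · intro x hx
          exact ⟨x, by simp [LinearMap.mem_ker.1 hx]⟩
        · rintro _ ⟨x, rfl⟩
          rw [LinearMap.mem_ker, LinearMap.sub_apply, map_sub, LinearMap.id_apply, LinearMap.comp_apply,
            Submodule.subtype_apply, hp, sub_self]
      rw [this, LinearMap.range_eq_map]
      exact Module.Finite.fg_top.map _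
    haveI : Module.FinitePresentation Ch N :=
      @Module.finitePresentation_of_surjective Ch (Ch ⊗[A] (C ⧸ J)) N _ _ _ _ _ ‹_› p hsurj hfg
    exact FittX.ideal_fg 0

end Groth.Agent.FittEtale

namespace Groth.Agent.FittEtale

/-- The quotient of a finite projective algebra by a finitely generated ideal is finitely presented. -/
theorem finitePresentation_quotient {A C : Type u} [CommRing A] [CommRing C] [Algebra A C] [Module.Finite A C]
    [Module.Projective A C] (J : Ideal C) (hJ : J.FG) : Module.FinitePresentation A (C ⧸ J) := by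
  haveI : Module.FinitePresentation A C := Module.finitePresentation_of_projective A C
  haveI : Module.Finite C J := Module.Finite.iff_fg.2 hJ
  haveI : Module.Finite A J := Module.Finite.trans C J
  have hfg : (LinearMap.ker (Ideal.Quotient.mkₐ A J).toLinearMap).FG := by
    have : LinearMap.ker (Ideal.Quotient.mkₐ A J).toLinearMap = J.restrictScalars A := by
      ext x
      exact Ideal.Quotient.eq_zero_iff_mem
    rw [this, ← Module.Finite.iff_fg]
    exact inferInstanceAs (Module.Finite A J)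
  exact @Module.finitePresentation_of_surjective A C (C ⧸ J) _ _ _ _ _ ‹_› (Ideal.Quotient.mkₐ A J).toLinearMap
    Ideal.Quotient.mk_surjective hfg

/-- An element annihilating a finite module is in the radical of its zeroth Fitting ideal. -/
theorem mem_radical_ideal_zero {A M : Type u} [CommRing A] [AddCommGroup M] [Module A M] [Module.Finite A M]
    (a : A) (ha : ∀ m : M, a • m = 0) : a ∈ (Fitt.ideal A M 0).radical := by
  classical
  obtain ⟨n, x, hx⟩ := FittX.exists_gen A M
  refine ⟨n, Ideal.subset_span ⟨n, x, Matrix.scalar (Fin n) a, hx, fun i _ => ?_, ?_⟩⟩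
  · simp [Matrix.scalar_apply, Matrix.diagonal_apply, ha]
  · simp [Matrix.scalar_apply, Matrix.det_diagonal]

/-- Finitely generated ideals of a localization are extended from finitely generated ideals. -/
theorem exists_fg_map {R : Type u} [CommRing R] (M : Submonoid R) (S : Type u) [CommRing S] [Algebra R S]
    [IsLocalization M S] (K : Ideal S) (hK : K.FG) : ∃ J : Ideal R, J.FG ∧ J.map (algebraMap R S) = K := by
  classical
  obtain ⟨G, hG⟩ := hK
  choose num hnum using fun g : S => IsLocalization.surj M g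
  refine ⟨Ideal.span ↑(G.image fun g => (num g).1), ⟨_, rfl⟩, ?_⟩
  rw [Ideal.map_span, Finset.coe_image, ← hG]
  apply le_antisymm
  · rw [Ideal.span_le]
    rintro _ ⟨_, ⟨g, hg, rfl⟩, rfl⟩
    rw [← hnum g]
    exact Ideal.mul_mem_right _ _ (Ideal.subset_span hg)
  · refine Ideal.span_le.2 fun g hg => ?_
    refine (Ideal.mul_unit_mem_iff_mem _ (IsLocalization.map_units S (num g).2)).1 ?_
    rw [hnum g]
    exact Ideal.subset_span ⟨_, ⟨g, hg, rfl⟩, rfl⟩

end Groth.Agent.FittEtale
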